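import Cfsg.Agent.LargePrime.Main
import Cfsg.Agent.LargePrime.SmallDegree
import Cfsg.Agent.Classification.SmallOrders.Check
import Cfsg.Agent.S4729
import Cfsg.Agent.Linear.Basic

/-!
# The degree test for a Sylow subgroup of prime order

For every possible number of Sylow `p`-subgroups and every index `e`, the degrees of the principal
block divide the order, are congruent to `±1` or `±e`, satisfy the relation at `1` and the bound on
the sum of squares; they are at least `2 p` unless the Sylow subgroup is its own centralizer.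
-/

set_option autoImplicit false
set_option linter.style.haveILetI false
set_option linter.unusedSectionVars false

namespace CfsgLib.LargePrime.BlockData

open CfsgLib.PrincipalBlock CfsgLib.Blocks CfsgLib.BlocksFrobenius

theorem deg_out' {G : Type*} [Group G] [Fintype G] {p : ℕ} [Fact p.Prime] {P : Sylow p G}
    (D : BlockData P) (S : Core P) {χ : Cfsg.IrrCharacter G} (hχ : χ ∈ D.out) :
    Cfsg.charDegree (χ : G → ℂ) = p * qdim P χ := by
  classical
  letI := Fintype.ofFinite ↥(P : Subgroup G)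
  obtain ⟨h1, h2⟩ := D.mem_out.1 hχ
  have h := sum_mult_eq χ (1 : ↥(P : Subgroup G) →* ℂˣ)
  simp only [MonoidHom.one_apply, Units.val_one, map_one, mul_one, S.card] at h
  apply Nat.cast_injective (R := ℂ)
  rw [charDegree_cast, Nat.cast_mul, qdim, ← h, Finset.sum_eq_single 1]
  · rfl
  · intro y _ hy
    exact D.out_val χ h1 h2 y y.2 fun h => hy (Subtype.ext h)
  · intro h; exact absurd (Finset.mem_univ _) h

end CfsgLib.LargePrime.BlockData

namespace CfsgLib.Classification.OrderRange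

open Cfsg CfsgLib.Small CfsgLib.Classification.SmallOrders
open CfsgLib.PrincipalBlock CfsgLib.Blocks

universe u

/-- Possible degrees of the non-exceptional members, with their sign. -/
def cands (N p c : ℕ) : List (ℕ × Bool) :=
  ((List.range 80).filter fun n => decide (2 ≤ n) && decide (n * n ≤ N) && (N % n == 0) &&
    ((c == 1) || decide (2 * p ≤ n)) && ((n % p == 1) || (n % p == p - 1))).map
      fun n => (n, n % p == 1)

/-- The signed degree. -/
def sval (x : ℕ × Bool) : ℤ := bif x.2 then (x.1 : ℤ) else -(x.1 : ℤ)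

/-- The exceptional degree given by the sum `s` is impossible. -/
def finalCheck (N p e c : ℕ) (pred inA : ℕ → Bool) (ok : Bool) (s : ℤ) (bud : ℕ) : Bool :=
  decide (s.natAbs < 2) || !(N % s.natAbs == 0) || (!(c == 1) && decide (s.natAbs < 2 * p)) ||
    (bif decide (0 < s) then !(s.natAbs % p == e % p) else !((s.natAbs + e) % p == 0)) ||
    decide (bud < (p - 1) / e * (s.natAbs * s.natAbs)) || pred s.natAbs || (ok && inA s.natAbs)

/-- All choices of `j` further members are impossible. -/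
def killed (N p e c : ℕ) (pred inA : ℕ → Bool) : ℕ → Bool → ℤ → ℕ → Bool
  | 0, ok, s, bud => finalCheck N p e c pred inA ok s bud
  | j + 1, ok, s, bud => (cands N p c).all fun x => decide (bud < x.1 * x.1) || pred x.1 ||
      killed N p e c pred inA j (ok && inA x.1) (s + sval x) (bud - x.1 * x.1)

/-- All the options for `d` Sylow subgroups are impossible. -/
def optionKilled (N p d : ℕ) (pred inA : ℕ → Bool) (start : Bool) : Bool :=
  (List.range p).all fun r => decide (r < 2) || !((p - 1) % r == 0) || !(N % (d * (r * p)) == 0) ||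
    (decide (d ≤ 4 * p) && (N / (d * (r * p)) % 2 == 0)) ||
    ((d == p + 1) && !(N / (d * (r * p)) == 1)) ||
    ((N / (d * (r * p)) == 1) && decide (2 * d < (p + 1) * (p + 2)) &&
      !(2 * N == p * (p ^ 2 - 1)) && !(N == (p - 1) * ((p - 1) ^ 2 - 1))) ||
    killed N p r (N / (d * (r * p))) pred inA (r - 1) (start && (N / (d * (r * p)) == 1)) 1 (N - 1)

/-- The prime `p` is impossible. -/
def primeKilled (N p : ℕ) (pred inA : ℕ → Bool) (start : Bool) : Bool :=
  primeCheck p && decide (3 ≤ p) && decide (N < 6400) && (N % p == 0) && !(N / p % p == 0) &&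
    (List.range (N / p / p + 1)).all fun k =>
      (k == 0) || !(N / p % (1 + k * p) == 0) || !(factMod (2 * N) (1 + k * p) == 0) ||
        optionKilled N p (1 + k * p) pred inA start

theorem killed_spec {N p e c : ℕ} {pred inA : ℕ → Bool} :
    ∀ (L : List (ℕ × Bool)) (ok : Bool) (s : ℤ) (bud : ℕ),
      killed N p e c pred inA L.length ok s bud = true → (∀ x ∈ L, x ∈ cands N p c) →
      ∀ d : ℕ, (s + (L.map sval).sum).natAbs = d → 2 ≤ d → d ∣ N → (c ≠ 1 → 2 * p ≤ d) →
      (0 < s + (L.map sval).sum → d % p = e % p) →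
      (¬ 0 < s + (L.map sval).sum → (d + e) % p = 0) →
      (L.map fun x => x.1 * x.1).sum + (p - 1) / e * (d * d) ≤ bud →
      (∃ x ∈ L, pred x.1 = true) ∨ pred d = true ∨
        (ok = true ∧ (∀ x ∈ L, inA x.1 = true) ∧ inA d = true)
  | [], ok, s, bud, h, _, d, hd, h2, hdN, hdp, hpos, hneg, hsq => by
    simp only [List.map_nil, List.sum_nil, add_zero, zero_add] at hd hpos hneg hsq
    simp only [List.length_nil, killed, finalCheck, hd, Bool.or_eq_true, Bool.and_eq_true,
      decide_eq_true_eq, Bool.not_eq_true', beq_eq_false_iff_ne] at h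
    rcases h with (((((h | h) | h) | h) | h) | h) | h
    · omega
    · exact absurd (Nat.mod_eq_zero_of_dvd hdN) h
    · have := hdp h.1
      omega
    · by_cases hs : 0 < s
      · simp only [hs, decide_true, cond_true, Bool.not_eq_true', beq_eq_false_iff_ne] at h
        exact absurd (hpos hs) h
      · simp only [hs, decide_false, cond_false, Bool.not_eq_true', beq_eq_false_iff_ne] at h
        exact absurd (hneg hs) h
    · omega
    · exact Or.inr (Or.inl h)
    · exact Or.inr (Or.inr ⟨h.1, by simp, h.2⟩)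
  | x :: L, ok, s, bud, h, hL, d, hd, h2, hdN, hdp, hpos, hneg, hsq => by
    simp only [List.map_cons, List.sum_cons, ← add_assoc] at hd hpos hneg hsq
    simp only [List.length_cons, killed, List.all_eq_true, Bool.or_eq_true,
      decide_eq_true_eq] at h
    rcases h x (hL x List.mem_cons_self) with (h' | h') | h'
    · omega
    · exact Or.inl ⟨x, List.mem_cons_self, h'⟩
    · rcases killed_spec L _ _ _ h' (fun y hy => hL y (List.mem_cons_of_mem _ hy)) d hd h2 hdN hdp
        hpos hneg (by omega) with ⟨y, hy, h''⟩ | h'' | ⟨h1, h3, h4⟩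
      · exact Or.inl ⟨y, List.mem_cons_of_mem _ hy, h''⟩
      · exact Or.inr (Or.inl h'')
      · rw [Bool.and_eq_true] at h1
        refine Or.inr (Or.inr ⟨h1.1, fun y hy => ?_, h4⟩)
        rcases List.mem_cons.1 hy with rfl | hy'
        exacts [h1.2, h3 y hy']

variable {G : Type u} [Group G] [Fintype G] [IsSimpleGroup G] {p : ℕ} [Fact p.Prime]

theorem mod_eq_of_dvd_sub {p n r : ℕ} (h : (p : ℤ) ∣ (r : ℤ) - n) : n % p = r % p :=
  Nat.modEq_iff_dvd.2 h

/-- The list of degrees from the members of the block. -/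
theorem degrees_of_data (hna : ¬ IsMulCommutative G) {N e c : ℕ} (hN : Nat.card G = N)
    (hN80 : N < 6400) (hp3 : 3 ≤ p) (Xs Ys : Finset (IrrCharacter G)) (δ : IrrCharacter G → ℤ)
    (ε : ℤ) {θ : IrrCharacter G} (hθ : θ ∈ Ys) (hXs : Xs.card + 1 = e)
    (hYs : Ys.card = (p - 1) / e) (hdisj : Disjoint Xs Ys)
    (hne : ∀ ψ ∈ Xs ∪ Ys, ψ ≠ trivChar G)
    (hδ : ∀ χ ∈ Xs, (δ χ = 1 ∨ δ χ = -1) ∧
      (p : ℤ) ∣ δ χ - (Cfsg.charDegree (χ : G → ℂ) : ℤ))
    (hε : ε = 1 ∨ ε = -1)
    (hYeq : ∀ θ' ∈ Ys, Cfsg.charDegree (θ' : G → ℂ) = Cfsg.charDegree (θ : G → ℂ))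
    (hmod : (p : ℤ) ∣ ε * e - (Cfsg.charDegree (θ : G → ℂ) : ℤ))
    (hrel : ε * (Cfsg.charDegree (θ : G → ℂ) : ℤ) =
      1 + ∑ χ ∈ Xs, δ χ * (Cfsg.charDegree (χ : G → ℂ) : ℤ))
    (hbig : c ≠ 1 → ∀ ψ ∈ Xs ∪ Ys, 2 * p ≤ Cfsg.charDegree (ψ : G → ℂ)) :
    ∃ (L : List (ℕ × Bool)) (d : ℕ), L.length + 1 = e ∧ (∀ x ∈ L, x ∈ cands N p c) ∧
      (1 + (L.map sval).sum).natAbs = d ∧ 2 ≤ d ∧ d ∣ N ∧ (c ≠ 1 → 2 * p ≤ d) ∧
      (0 < 1 + (L.map sval).sum → d % p = e % p) ∧
      (¬ 0 < 1 + (L.map sval).sum → (d + e) % p = 0) ∧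
      (L.map fun x => x.1 * x.1).sum + (p - 1) / e * (d * d) ≤ N - 1 ∧
      (∀ x ∈ L, ∃ χ : IrrCharacter G, Cfsg.charDegree (χ : G → ℂ) = x.1) ∧
      Cfsg.charDegree (θ : G → ℂ) = d ∧
      ∀ χ ∈ Xs, ∃ x ∈ L, x.1 = Cfsg.charDegree (χ : G → ℂ) := by
  classical
  have h2deg : ∀ ψ ∈ Xs ∪ Ys, 2 ≤ Cfsg.charDegree (ψ : G → ℂ) := fun ψ hψ => by
    obtain ⟨n, hn0, -, hn, -⟩ := ClassPairs.exists_irr_degree ψ
    rcases Nat.lt_or_ge n 2 with h | h
    · exact absurd (SylowPrimeOrder.eq_trivChar_of_degree_one hna (by rw [hn]; omega)) (hne ψ hψ)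
    · omega
  have hdvd : ∀ ψ : IrrCharacter G, Cfsg.charDegree (ψ : G → ℂ) ∣ N := fun ψ =>
    hN ▸ Blocks.charDegree_dvd_card ψ
  set d := Cfsg.charDegree (θ : G → ℂ) with hd
  have hsq : 1 + ∑ χ ∈ Xs, Cfsg.charDegree (χ : G → ℂ) ^ 2 + (p - 1) / e * (d * d) ≤ N := by
    rw [← hN, ← LargePrime.sum_charDegree_sq]
    have h1 : ∑ χ ∈ Ys, Cfsg.charDegree (χ : G → ℂ) ^ 2 = (p - 1) / e * (d * d) := by
      rw [Finset.sum_congr rfl fun χ hχ => by rw [hYeq χ hχ, sq], Finset.sum_const, hYs, smul_eq_mul]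
    rw [← h1, add_assoc, ← Finset.sum_union hdisj]
    refine le_trans (le_of_eq ?_) (Finset.sum_le_sum_of_subset
      (Finset.subset_univ (insert (trivChar G) (Xs ∪ Ys))))
    rw [Finset.sum_insert fun h => hne _ h rfl, LargePrime.charDegree_trivChar]
    norm_num
  set f : IrrCharacter G → ℕ × Bool := fun χ =>
    (Cfsg.charDegree (χ : G → ℂ), Cfsg.charDegree (χ : G → ℂ) % p == 1) with hf
  have hsval : ∀ χ ∈ Xs, sval (f χ) = δ χ * (Cfsg.charDegree (χ : G → ℂ) : ℤ) := fun χ hχ => by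
    obtain ⟨hs, hm⟩ := hδ χ hχ
    rcases hs with h | h <;> rw [h] at hm ⊢
    · have h1 := mod_eq_of_dvd_sub (p := p) (r := 1) (by exact_mod_cast hm)
      rw [Nat.one_mod_eq_one.2 (by omega)] at h1
      simp [sval, hf, h1]
    · have h1 := mod_eq_of_dvd_sub (p := p) (r := p - 1) (n := Cfsg.charDegree (χ : G → ℂ)) (by
        rw [Nat.cast_sub (by omega : 1 ≤ p), Nat.cast_one,
          show (p : ℤ) - 1 - (Cfsg.charDegree (χ : G → ℂ) : ℤ) =
            (p : ℤ) + (-1 - (Cfsg.charDegree (χ : G → ℂ) : ℤ)) by ring]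
        exact dvd_add dvd_rfl hm)
      rw [Nat.mod_eq_of_lt (by omega : p - 1 < p)] at h1
      have h2 : Cfsg.charDegree (χ : G → ℂ) % p ≠ 1 := by omega
      have h3 : (Cfsg.charDegree (χ : G → ℂ) % p == 1) = false := beq_eq_false_iff_ne.2 h2
      simp [sval, hf, h3]
  have hsum : ((Xs.toList.map f).map sval).sum =
      ∑ χ ∈ Xs, δ χ * (Cfsg.charDegree (χ : G → ℂ) : ℤ) := by
    rw [List.map_map, Finset.sum_map_toList]
    exact Finset.sum_congr rfl fun χ hχ => hsval χ hχ
  refine ⟨Xs.toList.map f, d, by simp [hXs], fun x hx => ?_, ?_, h2deg θ (Finset.mem_union_right _ hθ),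
    hdvd θ, fun hc => hbig hc θ (Finset.mem_union_right _ hθ), ?_, ?_, ?_, fun x hx => ?_, rfl,
    fun χ hχ => ⟨f χ, List.mem_map.2 ⟨χ, Finset.mem_toList.2 hχ, rfl⟩, rfl⟩⟩
  · obtain ⟨χ, hχ, rfl⟩ := List.mem_map.1 hx
    rw [Finset.mem_toList] at hχ
    refine List.mem_map.2 ⟨Cfsg.charDegree (χ : G → ℂ), ?_, rfl⟩
    have h1 : Cfsg.charDegree (χ : G → ℂ) ^ 2 ≤ N := by
      have := Finset.single_le_sum (f := fun ψ : IrrCharacter G => Cfsg.charDegree (ψ : G → ℂ) ^ 2)
        (fun _ _ => Nat.zero_le _) hχ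
      omega
    simp only [List.mem_filter, List.mem_range, Bool.and_eq_true, Bool.or_eq_true,
      decide_eq_true_eq, beq_iff_eq]
    refine ⟨by nlinarith, ⟨⟨⟨h2deg χ (Finset.mem_union_left _ hχ), by rwa [← sq]⟩,
      Nat.mod_eq_zero_of_dvd (hdvd χ)⟩, ?_⟩, ?_⟩
    · rcases eq_or_ne c 1 with h | h
      exacts [Or.inl h, Or.inr (hbig h χ (Finset.mem_union_left _ hχ))]
    · obtain ⟨hs, hm⟩ := hδ χ hχ
      rcases hs with h | h <;> rw [h] at hm
      · left
        rw [mod_eq_of_dvd_sub (p := p) (r := 1) (by exact_mod_cast hm), Nat.one_mod_eq_one.2 (by omega)]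
      · right
        rw [mod_eq_of_dvd_sub (p := p) (r := p - 1) (n := Cfsg.charDegree (χ : G → ℂ)) (by
          rw [Nat.cast_sub (by omega : 1 ≤ p), Nat.cast_one,
            show (p : ℤ) - 1 - (Cfsg.charDegree (χ : G → ℂ) : ℤ) =
              (p : ℤ) + (-1 - (Cfsg.charDegree (χ : G → ℂ) : ℤ)) by ring]
          exact dvd_add dvd_rfl hm), Nat.mod_eq_of_lt (by omega : p - 1 < p)]
  · rw [hsum, ← hrel]
    rcases hε with h | h <;> rw [h] <;> simp
  · rw [hsum, ← hrel]
    intro hpos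
    rcases hε with h | h
    · rw [h, one_mul] at hmod
      exact mod_eq_of_dvd_sub hmod
    · rw [h] at hpos; omega
  · rw [hsum, ← hrel]
    intro hpos
    rcases hε with h | h
    · exfalso
      rw [h, one_mul] at hpos
      have := h2deg θ (Finset.mem_union_right _ hθ)
      omega
    · rw [h] at hmod
      refine Nat.mod_eq_zero_of_dvd (Int.natCast_dvd_natCast.1 ?_)
      have h1 := dvd_neg.2 hmod
      push_cast
      rwa [show -(-1 * (e : ℤ) - (d : ℤ)) = (d : ℤ) + e by ring] at h1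
  · rw [List.map_map, Finset.sum_map_toList]
    have h1 : Xs.sum ((fun x : ℕ × Bool => x.1 * x.1) ∘ f) =
        ∑ χ ∈ Xs, Cfsg.charDegree (χ : G → ℂ) ^ 2 :=
      Finset.sum_congr rfl fun χ _ => (sq _).symm
    omega
  · obtain ⟨χ, -, rfl⟩ := List.mem_map.1 hx
    exact ⟨χ, rfl⟩

/-- The degrees in the principal block of a simple group for a Sylow subgroup of order `p`. -/
theorem block_degrees (hna : ¬ IsMulCommutative G) (hp3 : 3 ≤ p) (P : Sylow p G)
    (hP : Nat.card (P : Subgroup G) = p) {N e c : ℕ} (hN : Nat.card G = N) (hN80 : N < 6400)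
    (he : (Subgroup.centralizer ((P : Subgroup G) : Set G)).relIndex
      (Subgroup.normalizer ((P : Subgroup G) : Set G)) = e) (he2 : 2 ≤ e) (hep : e ≤ p - 1)
    (hc : Nat.card (Subgroup.centralizer ((P : Subgroup G) : Set G)) = p * c) :
    ∃ (L : List (ℕ × Bool)) (d : ℕ), L.length + 1 = e ∧ (∀ x ∈ L, x ∈ cands N p c) ∧
      (1 + (L.map sval).sum).natAbs = d ∧ 2 ≤ d ∧ d ∣ N ∧ (c ≠ 1 → 2 * p ≤ d) ∧
      (0 < 1 + (L.map sval).sum → d % p = e % p) ∧
      (¬ 0 < 1 + (L.map sval).sum → (d + e) % p = 0) ∧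
      (L.map fun x => x.1 * x.1).sum + (p - 1) / e * (d * d) ≤ N - 1 ∧
      (∀ x ∈ L, ∃ χ : IrrCharacter G, Cfsg.charDegree (χ : G → ℂ) = x.1) ∧
      (∃ χ : IrrCharacter G, Cfsg.charDegree (χ : G → ℂ) = d) ∧
      (c = 1 → ∀ χ : IrrCharacter G, Cfsg.charDegree (χ : G → ℂ) = 1 ∨
        p ∣ Cfsg.charDegree (χ : G → ℂ) ∨ Cfsg.charDegree (χ : G → ℂ) = d ∨
        ∃ x ∈ L, x.1 = Cfsg.charDegree (χ : G → ℂ)) := by
  classical
  have hp := (Fact.out : p.Prime)
  have hperf := SmallOrders.commutator_eq_top hna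
  have hPC : (P : Subgroup G) ≤ Subgroup.centralizer ((P : Subgroup G) : Set G) := by
    haveI := isCyclic_of_prime_card hP
    exact Subgroup.le_centralizer (P : Subgroup G)
  by_cases hc1 : c = 1
  · have S : LargePrime.Core P := ⟨hperf, hP,
      (Subgroup.eq_of_le_of_card_ge hPC (by rw [hP, hc, hc1, mul_one])).symm⟩
    obtain ⟨D⟩ := S.exists_blockData
    have heI : LargePrime.eIdx P = e := by rw [← he, LargePrime.eIdx, S.self]
    obtain ⟨θ, hθ⟩ : ∃ θ, θ ∈ D.Y := Finset.card_pos.1 (by rw [D.cardY]; exact S.kIdx_pos)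
    obtain ⟨L, d, h1, h2, h3, h4, h5, h6, h7, h8, h9, h10, h11, h12⟩ :=
      degrees_of_data (p := p) (e := e) (c := c) hna hN hN80 hp3 (D.X.erase (trivChar G)) D.Y D.δ D.ε
        hθ (by rw [Finset.card_erase_add_one D.triv_mem, D.cardX, heI])
        (by rw [D.cardY, LargePrime.kIdx, heI])
        (D.disj.mono_left (Finset.erase_subset _ _))
        (fun ψ hψ => by
          rcases Finset.mem_union.1 hψ with h | h
          · exact Finset.ne_of_mem_erase h
          · exact fun h' => Finset.disjoint_left.1 D.disj D.triv_mem (h' ▸ h))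
        (fun χ hχ => ⟨D.δ_sign χ (Finset.mem_of_mem_erase hχ),
          ⟨D.δ χ - LargePrime.qdim P χ, by rw [D.degX χ (Finset.mem_of_mem_erase hχ)]; ring⟩⟩)
        D.ε_sign
        (fun θ' hθ' => Nat.cast_injective (R := ℂ) (by
          rw [charDegree_cast, charDegree_cast, D.apply_Y S hθ hθ']))
        (⟨-(LargePrime.qdim P θ : ℤ), by rw [D.degY θ hθ, heI]; ring⟩)
        (by
          rw [D.rel_one S hθ, ← Finset.add_sum_erase _ _ D.triv_mem, D.δ_triv,
            LargePrime.charDegree_trivChar, Nat.cast_one, mul_one])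
        (fun h => absurd hc1 h)
    refine ⟨L, d, h1, h2, h3, h4, h5, h6, h7, h8, h9, h10, ⟨θ, h11⟩, fun _ χ => ?_⟩
    by_cases hX : χ ∈ D.X
    · by_cases ht : χ = trivChar G
      · exact Or.inl (ht ▸ LargePrime.charDegree_trivChar)
      · exact Or.inr (Or.inr (Or.inr (h12 χ (Finset.mem_erase.2 ⟨ht, hX⟩))))
    · by_cases hY : χ ∈ D.Y
      · refine Or.inr (Or.inr (Or.inl ?_))
        rw [← h11]
        exact Nat.cast_injective (R := ℂ) (by rw [charDegree_cast, charDegree_cast, D.apply_Y S hθ hY])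
      · exact Or.inr (Or.inl ⟨_, D.deg_out' S (D.mem_out.2 ⟨hX, hY⟩)⟩)
  · obtain ⟨M₀, hM⟩ := exists_isPModular p hp
    haveI : M₀.IsPrime := hM.2.1.isPrime
    obtain ⟨X, Y, hB, hXY, hX, hY, εX, ε, hXs, hε, hYd, hYeq, hid⟩ :=
      Cfsg.Agent.S4441.result p M₀ hM (by omega) P hP e he
    have hbig : ∀ ψ : IrrCharacter G, ψ ∈ X ∪ Y → ψ ≠ trivChar G →
        2 * p ≤ Cfsg.charDegree (ψ : G → ℂ) := fun ψ hψ hne => by
      by_contra hlt
      have hfaith : ∀ g : G, (ψ : G → ℂ) g = (ψ : G → ℂ) 1 → g = 1 := fun g hg => by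
        have hnormal : (charKer ψ).Normal := ⟨fun a ha x => mem_charKer.2 (by
          rw [Characters.isClassFunction_of_isIrr ψ.2 a x]; exact mem_charKer.1 ha)⟩
        rcases hnormal.eq_bot_or_eq_top with h | h
        · exact Subgroup.mem_bot.1 (h ▸ mem_charKer.2 hg)
        · exact absurd (eq_trivChar_of_charKer_eq_top h) hne
      have h1 := Cfsg.Agent.S4729.result p M₀ hM hperf P ψ (hB ▸ hψ) hfaith (by omega)
      have h2 := P.3 h1 hPC
      rw [h2, hP] at hc
      exact hc1 ((mul_eq_left₀ hp.ne_zero).1 hc.symm)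
    have hd1 : Cfsg.charDegree ((trivChar G : IrrCharacter G) : G → ℂ) = 1 :=
      LargePrime.charDegree_trivChar
    have hk : 0 < (p - 1) / e := Nat.div_pos hep (by omega)
    have hrel : ∀ θ ∈ Y, ε * (Cfsg.charDegree (θ : G → ℂ) : ℤ) =
        ∑ χ ∈ X.toFinset, εX χ * (Cfsg.charDegree (χ : G → ℂ) : ℤ) := fun θ hθ => by
      have h1 := hid θ hθ 1 (by rw [orderOf_one]; exact hp.not_dvd_one)
      rw [finsum_mem_eq_toFinset_sum] at h1
      apply Int.cast_injective (α := ℂ)
      push_cast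
      simp only [charDegree_cast]
      exact h1
    have hXc : X.toFinset.card = e := by
      rw [← Set.ncard_eq_toFinset_card', ← Nat.card_coe_set_eq, hX]
    have hYc : Y.toFinset.card = (p - 1) / e := by
      rw [← Set.ncard_eq_toFinset_card', ← Nat.card_coe_set_eq, hY]
    by_cases htX : trivChar G ∈ X
    · obtain ⟨θ, hθ⟩ := Finset.card_pos.1 (hYc ▸ hk)
      have hδt : εX (trivChar G) = 1 := by
        obtain ⟨hs, hm, -⟩ := hXs _ htX
        rcases hs with h | h
        · exact h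
        · exfalso
          rw [h, hd1] at hm
          obtain ⟨a, ha⟩ := Int.modEq_iff_dvd.1 hm
          have h2 : (p : ℤ) ∣ ((2 : ℕ) : ℤ) := ⟨-a, by push_cast at ha ⊢; linarith⟩
          have := Nat.le_of_dvd two_pos (Int.natCast_dvd_natCast.1 h2)
          omega
      obtain ⟨L, d, h1, h2, h3, h4, h5, h6, h7, h8, h9, h10, h11, -⟩ :=
        degrees_of_data (p := p) (e := e) (c := c) hna hN hN80 hp3
          (X.toFinset.erase (trivChar G)) Y.toFinset εX ε hθ
          (by rw [Finset.card_erase_add_one (Set.mem_toFinset.2 htX), hXc]) hYc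
          (Finset.disjoint_left.2 fun χ h h' => Set.disjoint_left.1 hXY
            (Set.mem_toFinset.1 (Finset.mem_of_mem_erase h)) (Set.mem_toFinset.1 h'))
          (fun ψ hψ => by
            rcases Finset.mem_union.1 hψ with h | h
            · exact Finset.ne_of_mem_erase h
            · exact fun h' => Set.disjoint_left.1 hXY htX (h' ▸ Set.mem_toFinset.1 h))
          (fun χ hχ => ⟨(hXs χ (Set.mem_toFinset.1 (Finset.mem_of_mem_erase hχ))).1,
            Int.modEq_iff_dvd.1 (hXs χ (Set.mem_toFinset.1 (Finset.mem_of_mem_erase hχ))).2.1⟩)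
          hε
          (fun θ' hθ' => Nat.cast_injective (R := ℂ) (by
            rw [charDegree_cast, charDegree_cast]
            exact hYeq θ' (Set.mem_toFinset.1 hθ') θ (Set.mem_toFinset.1 hθ) 1
              (by rw [orderOf_one]; exact hp.not_dvd_one)))
          (Int.modEq_iff_dvd.1 (hYd θ (Set.mem_toFinset.1 hθ)))
          (by
            rw [hrel θ (Set.mem_toFinset.1 hθ), ← Finset.add_sum_erase _ _ (Set.mem_toFinset.2 htX),
              hδt, hd1, Nat.cast_one, mul_one])
          (fun _ ψ hψ => by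
            rcases Finset.mem_union.1 hψ with h | h
            · exact hbig ψ (Or.inl (Set.mem_toFinset.1 (Finset.mem_of_mem_erase h)))
                (Finset.ne_of_mem_erase h)
            · exact hbig ψ (Or.inr (Set.mem_toFinset.1 h)) fun h' =>
                Set.disjoint_left.1 hXY htX (h' ▸ Set.mem_toFinset.1 h))
      exact ⟨L, d, h1, h2, h3, h4, h5, h6, h7, h8, h9, h10, ⟨θ, h11⟩, fun h => absurd h hc1⟩
    · have htY : trivChar G ∈ Y := by
        have : trivChar G ∈ X ∪ Y := hB ▸ trivChar_mem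
        exact this.resolve_left htX
      have hm := Int.modEq_iff_dvd.1 (hYd _ htY)
      rw [hd1] at hm
      have hεe : ε = -1 ∧ e = p - 1 := by
        rcases hε with h | h <;> rw [h] at hm
        · exfalso
          have h1 : (p : ℤ) ∣ ((e - 1 : ℕ) : ℤ) := by
            rw [Nat.cast_sub (by omega : 1 ≤ e)]; simpa using hm
          have := Nat.le_of_dvd (by omega) (Int.natCast_dvd_natCast.1 h1)
          omega
        · refine ⟨h, ?_⟩
          have h1 : (p : ℤ) ∣ ((e + 1 : ℕ) : ℤ) := by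
            have := dvd_neg.2 hm
            rwa [show -(-1 * (e : ℤ) - ((1 : ℕ) : ℤ)) = ((e + 1 : ℕ) : ℤ) by push_cast; ring] at this
          have := Nat.le_of_dvd (by omega) (Int.natCast_dvd_natCast.1 h1)
          omega
      obtain ⟨χ₀, hχ₀⟩ := Finset.card_pos.1 (show 0 < X.toFinset.card by omega)
      have hne : ∀ χ ∈ X.toFinset, χ ≠ trivChar G := fun χ h h' =>
        htX (h' ▸ Set.mem_toFinset.1 h)
      obtain ⟨hs₀, hm₀, -⟩ := hXs χ₀ (Set.mem_toFinset.1 hχ₀)
      have hrel₀ := hrel _ htY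
      rw [hd1, hεe.1, ← Finset.add_sum_erase _ _ hχ₀, Nat.cast_one, mul_one] at hrel₀
      obtain ⟨L, d, h1, h2, h3, h4, h5, h6, h7, h8, h9, h10, h11, -⟩ :=
        degrees_of_data (p := p) (e := e) (c := c) hna hN hN80 hp3
          (X.toFinset.erase χ₀) {χ₀} εX (-εX χ₀) (Finset.mem_singleton_self χ₀)
          (by rw [Finset.card_erase_add_one hχ₀, hXc])
          (by rw [Finset.card_singleton, hεe.2, Nat.div_self (by omega)])
          (Finset.disjoint_singleton_right.2 (Finset.notMem_erase _ _))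
          (fun ψ hψ => by
            rcases Finset.mem_union.1 hψ with h | h
            · exact hne ψ (Finset.mem_of_mem_erase h)
            · exact Finset.mem_singleton.1 h ▸ hne χ₀ hχ₀)
          (fun χ hχ => ⟨(hXs χ (Set.mem_toFinset.1 (Finset.mem_of_mem_erase hχ))).1,
            Int.modEq_iff_dvd.1 (hXs χ (Set.mem_toFinset.1 (Finset.mem_of_mem_erase hχ))).2.1⟩)
          (by rcases hs₀ with h | h <;> rw [h] <;> norm_num)
          (fun θ' h => by rw [Finset.mem_singleton.1 h])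
          (by
            rw [hεe.2, Nat.cast_sub (by omega : 1 ≤ p), Nat.cast_one,
              show -εX χ₀ * ((p : ℤ) - 1) - (Cfsg.charDegree (χ₀ : G → ℂ) : ℤ) =
                (p : ℤ) * -εX χ₀ + (εX χ₀ - (Cfsg.charDegree (χ₀ : G → ℂ) : ℤ)) by ring]
            exact dvd_add (dvd_mul_right _ _) (Int.modEq_iff_dvd.1 hm₀))
          (by linarith)
          (fun _ ψ hψ => by
            rcases Finset.mem_union.1 hψ with h | h
            · exact hbig ψ (Or.inl (Set.mem_toFinset.1 (Finset.mem_of_mem_erase h)))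
                (hne ψ (Finset.mem_of_mem_erase h))
            · rw [Finset.mem_singleton.1 h]
              exact hbig χ₀ (Or.inl (Set.mem_toFinset.1 hχ₀)) (hne χ₀ hχ₀))
      exact ⟨L, d, h1, h2, h3, h4, h5, h6, h7, h8, h9, h10, ⟨χ₀, h11⟩, fun h => absurd h hc1⟩

omit [Fintype G] in
/-- The conclusion of a successful test. -/
theorem degrees_of_primeKilled [Finite G] (hna : ¬ IsMulCommutative G) {N : ℕ}
    (hN : Nat.card G = N) {pred inA : ℕ → Bool} {start : Bool}
    (h : primeKilled N p pred inA start = true) :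
    (∃ χ : IrrCharacter G, pred (Cfsg.charDegree (χ : G → ℂ)) = true) ∨
      (start = true ∧ ∀ χ : IrrCharacter G, Cfsg.charDegree (χ : G → ℂ) = 1 ∨
        p ∣ Cfsg.charDegree (χ : G → ℂ) ∨ inA (Cfsg.charDegree (χ : G → ℂ)) = true) := by
  classical
  haveI := Fintype.ofFinite G
  simp only [primeKilled, Bool.and_eq_true, Bool.or_eq_true, List.all_eq_true, List.mem_range,
    decide_eq_true_eq, Bool.not_eq_true', beq_eq_false_iff_ne, beq_iff_eq, factMod_eq] at h
  obtain ⟨⟨⟨⟨⟨-, hp3⟩, hN80⟩, hdvd⟩, hm⟩, hall⟩ := h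
  set m := N / p with hmdef
  have hNk : Nat.card G = p ^ 1 * m := by
    rw [hN, pow_one, Nat.mul_div_cancel' (Nat.dvd_of_mod_eq_zero hdvd)]
  have hm' : ¬ p ∣ m := fun e => hm (Nat.mod_eq_zero_of_dvd e)
  have hpG : p ∣ Nat.card G := hN ▸ Nat.dvd_of_mod_eq_zero hdvd
  obtain ⟨P⟩ : Nonempty (Sylow p G) := inferInstance
  have hP : Nat.card (P : Subgroup G) = p := by rw [card_sylow_eq hNk hm' P, pow_one]
  set n := Nat.card (Sylow p G) with hn
  have hnd := card_sylow_dvd hNk hm'
  have hdm := Nat.div_add_mod n p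
  rw [card_sylow_mod (G := G) p] at hdm
  have hne : n = 1 + n / p * p := by rw [mul_comm (n / p) p]; omega
  have hm0 : 0 < m := Nat.pos_of_ne_zero fun e => hm' (e ▸ dvd_zero p)
  rcases hall (n / p) (Nat.lt_succ_of_le (Nat.div_le_div_right (Nat.le_of_dvd hm0 hnd)))
    with ((h' | h') | h') | h'
  · exfalso
    rw [h', zero_mul, add_zero] at hne
    exact card_sylow_ne_one hna hpG hne
  · exfalso
    rw [← hne] at h'
    exact h' (Nat.mod_eq_zero_of_dvd hnd)
  · exfalso
    rw [← hne, ← hN] at h'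
    exact h' (Nat.mod_eq_zero_of_dvd (two_mul_card_dvd_factorial_sylow hna hpG))
  rw [← hne] at h'
  obtain ⟨r, c, hr, hr1, hNc, hCc⟩ := exists_relIndex hna P hP
  have hmul := card_sylow_mul_card_normalizer P
  rw [hNc, hN, ← hn] at hmul
  have hr0 : r ≠ 0 := fun e => by subst e; have := zero_dvd_iff.1 hr; omega
  have hrp : r ≤ p - 1 := Nat.le_of_dvd (by omega) hr
  have hpos : 0 < n * (r * p) := Nat.mul_pos Nat.card_pos (Nat.mul_pos (by omega) (by omega))
  have hN1 : N = n * (r * p) * c := by rw [← hmul]; ring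
  have hdiv : N / (n * (r * p)) = c := by rw [hN1]; exact Nat.mul_div_cancel_left _ hpos
  have hrel : (Subgroup.centralizer ((P : Subgroup G) : Set G)).relIndex
      (Subgroup.normalizer ((P : Subgroup G) : Set G)) = r := by
    have h1 := card_centralizer_mul_relIndex (P : Subgroup G)
    rw [hCc, hNc, mul_comm r] at h1
    have hc0 : 0 < p * c := hCc ▸ Nat.card_pos
    exact Nat.eq_of_mul_eq_mul_left hc0 h1
  rw [optionKilled, List.all_eq_true] at h'
  have h'r := h' r (List.mem_range.2 (by omega))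
  rw [hdiv] at h'r
  simp only [Bool.or_eq_true, Bool.and_eq_true, decide_eq_true_eq, Bool.not_eq_true',
    beq_eq_false_iff_ne, beq_iff_eq] at h'r
  rcases h'r with (((((h' | h') | h') | h') | h') | h') | h'
  · omega
  · exact absurd (Nat.mod_eq_zero_of_dvd hr) h'
  · exact absurd (by rw [hN1]; exact Nat.mul_mod_right _ _) h'
  · exfalso
    refine two_not_dvd_card_centralizer hna hpG P hP (by omega) h'.1 ?_
    rw [hCc]
    exact (Nat.dvd_of_mod_eq_zero h'.2).mul_left p
  · exfalso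
    have := congrArg (fun H : Subgroup G => Nat.card H) (centralizer_eq_of_card_succ hna hpG P hP h'.1)
    simp only [hCc, hP] at this
    exact h'.2 ((Nat.mul_eq_left (by omega)).1 this)
  · exfalso
    obtain ⟨⟨⟨hc1, hsmall⟩, hodd⟩, heven⟩ := h'
    haveI := isCyclic_of_prime_card hP
    have S : LargePrime.Core P := ⟨SmallOrders.commutator_eq_top hna, hP,
      (Subgroup.eq_of_le_of_card_ge (Subgroup.le_centralizer (P : Subgroup G))
        (by rw [hP, hCc, hc1, mul_one])).symm⟩
    rcases LargePrime.Setup.classification (P := P) ⟨S, hsmall⟩ with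
      ⟨F, i1, i2, hF, -, ⟨φ⟩⟩ | ⟨i, F, i1, i2, hF, hpi, -, ⟨φ⟩⟩
    · have := Linear.card_PSL_two_odd (F := F) (by
        rw [hF]; exact (Fact.out : p.Prime).odd_of_ne_two (by omega))
      rw [← Nat.card_congr φ.toEquiv, hN, hF] at this
      exact hodd this
    · have hev : Even (Fintype.card F) := by
        rw [hF]
        exact (Nat.even_pow.2 ⟨even_two, fun h => by rw [h, pow_zero] at hpi; omega⟩)
      have := Linear.card_PSL_two_even (F := F) hev
      rw [← Nat.card_congr φ.toEquiv, hN, hF] at this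
      exact heven (by rw [hpi, Nat.add_sub_cancel]; exact this)
  · obtain ⟨L, d, h1, h2, h3, h4, h5, h6, h7, h8, h9, h10, ⟨χd, h11⟩, h12⟩ :=
      block_degrees hna hp3 P hP hN hN80 hrel (by omega) hrp hCc
    rw [show r - 1 = L.length by omega] at h'
    rcases killed_spec L _ _ _ h' h2 d h3 h4 h5 h6 h7 h8 h9 with ⟨x, hx, hpx⟩ | hpd | ⟨hok, hA, hAd⟩
    · obtain ⟨χ, hχ⟩ := h10 x hx
      exact Or.inl ⟨χ, hχ ▸ hpx⟩
    · exact Or.inl ⟨χd, h11 ▸ hpd⟩
    · rw [Bool.and_eq_true, beq_iff_eq] at hok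
      refine Or.inr ⟨hok.1, fun χ => ?_⟩
      rcases h12 hok.2 χ with e | e | e | ⟨x, hx, e⟩
      · exact Or.inl e
      · exact Or.inr (Or.inl e)
      · exact Or.inr (Or.inr (e ▸ hAd))
      · exact Or.inr (Or.inr (e ▸ hA x hx))

end CfsgLib.Classification.OrderRange
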