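import Cfsg.Agent.Classification.SmallOrders.Kit
import Cfsg.Agent.Small.FixedPoints
import Cfsg.Agent.Small.OrderTools
import Cfsg.Agent.Perm69.JordanPrime
import Cfsg.Agent.Derangement.Subgroup
import Cfsg.Agent.RegularLinear.Basic

/-!
# No simple group of order 5400

The normaliser of an intersection `D` of two Sylow 5-subgroups has index 18 and centralises `D`;
a generator of `D` is then a 5-cycle in a primitive action of degree 18.
-/

set_option autoImplicit false
set_option linter.style.haveILetI false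

namespace CfsgLib.Classification.OrderRange

open CfsgLib.Small CfsgLib.Classification.SmallOrders MulAction

/-- A group of order `25c`, `c ∈ {3,6,9,18}`, has one Sylow 5-subgroup. -/
theorem card_sylow_five_eq_one {T : Type*} [Group T] [Finite T] [Fact (Nat.Prime 5)] {c : ℕ}
    (hT : Nat.card T = 5 ^ 2 * c) (hc : c ∈ [3, 6, 9, 18]) : Nat.card (Sylow 5 T) = 1 := by
  haveI : Fact (Nat.Prime 2) := ⟨Nat.prime_two⟩
  have key : ∀ {U : Type _} [Group U] [Finite U] {d : ℕ}, Nat.card U = 5 ^ 2 * d → d = 3 ∨ d = 9 →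
      Nat.card (Sylow 5 U) = 1 := by
    intro U _ _ d hU hd
    have h1 := card_sylow_mod (G := U) 5
    have h2 := card_sylow_dvd hU (by rcases hd with rfl | rfl <;> norm_num)
    have h3 := Nat.le_of_dvd (by omega) h2
    rcases hd with rfl | rfl <;> interval_cases h : Nat.card (Sylow 5 U) <;> omega
  simp only [List.mem_cons, List.not_mem_nil, or_false] at hc
  rcases hc with rfl | rfl | rfl | rfl
  · exact key hT (Or.inl rfl)
  rotate_left
  · exact key hT (Or.inr rfl)
  all_goals
    obtain ⟨S⟩ : Nonempty (Sylow 2 T) := inferInstance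
    have hS : Nat.card (S : Subgroup T) = 2 ^ 1 :=
      card_sylow_eq (m := Nat.card T / 2) (by rw [hT]; norm_num) (by rw [hT]; norm_num) S
    haveI : IsCyclic (S : Subgroup T) := isCyclic_of_prime_card (p := 2) (by simpa using hS)
    obtain ⟨K, -, hK⟩ := RegLinear.exists_index_two_of_cyclic_sylow S (by rw [hT]; norm_num)
    have hKc := K.card_mul_index
    rw [hK, hT] at hKc
    have hle : ∀ Q : Sylow 5 T, (Q : Subgroup T) ≤ K := by
      intro Q g hg
      obtain ⟨k, hk⟩ := Q.2 ⟨g, hg⟩
      have hg5 : g ^ (5 ^ k) = 1 := congrArg Subtype.val hk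
      obtain ⟨j, hj⟩ : Odd (5 ^ k) := Odd.pow (by decide)
      have h2 : g ^ 2 ∈ K := Subgroup.sq_mem_of_index_two hK g
      have he : g = (g ^ 2) ^ (j + 1) := by
        rw [← pow_mul, show 2 * (j + 1) = 5 ^ k + 1 by omega, pow_succ, hg5, one_mul]
      rw [he]
      exact pow_mem h2 _
    refine le_antisymm ?_ Nat.card_pos
    refine le_trans (Nat.card_le_card_of_injective (fun Q : Sylow 5 T => Q.subtype (hle Q)) ?_) ?_
    · exact fun Q Q' h => Sylow.subtype_injective (hP := hle Q) (hQ := hle Q') h
    · exact (key (U := K) (d := Nat.card K / 25) (by omega) (by omega)).le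

/-- In a group of order 300 with six Sylow 5-subgroups a proper subgroup of order divisible by 25
has index divisible by six. -/
theorem eq_top_or_six_dvd_index {T : Type*} [Group T] [Finite T] [Fact (Nat.Prime 5)]
    (hT : Nat.card T = 5 ^ 2 * 12) (hn : Nat.card (Sylow 5 T) = 6) (H : Subgroup T)
    (h : 5 ^ 2 ∣ Nat.card H) : H = ⊤ ∨ 6 ∣ H.index := by
  obtain ⟨Q₀, hQ₀⟩ := Sylow.exists_subgroup_card_pow_prime (G := H) 5 h
  obtain ⟨e, he⟩ := h
  have hmul := H.card_mul_index
  rw [he, hT, mul_assoc] at hmul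
  have he12 : e * H.index = 12 := by omega
  have he' : e ∈ Nat.divisors 12 := Nat.mem_divisors.2 ⟨⟨_, he12.symm⟩, by norm_num⟩
  have h5 : ¬ 5 ∣ e := fun h5 => by
    have := h5.trans (Nat.dvd_of_mem_divisors he'); norm_num at this
  have h1 := card_sylow_mod (G := H) 5
  have h2 := card_sylow_dvd he h5
  by_cases hone : Nat.card (Sylow 5 H) = 1
  · right
    have hQc : Nat.card (Q₀.map H.subtype) = 5 ^ (Nat.card T).factorization 5 := by
      rw [Subgroup.card_map_of_injective H.subtype_injective, hQ₀]
      congr 1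
      rw [hT, Nat.factorization_mul (by norm_num) (by norm_num),
        Nat.Prime.factorization_pow (Fact.out : Nat.Prime 5)]
      simp [Nat.factorization_eq_zero_of_not_dvd (show ¬ 5 ∣ 12 by norm_num)]
    let Q : Sylow 5 T := Sylow.ofCard (Q₀.map H.subtype) hQc
    have hQH : (Q : Subgroup T) ≤ H := Subgroup.map_subtype_le Q₀
    haveI : Subsingleton (Sylow 5 H) := (Nat.card_eq_one_iff_unique.1 hone).1
    have hn' := (Q.subtype hQH).normal_of_subsingleton
    have hHN : H ≤ Subgroup.normalizer ((Q : Subgroup T) : Set T) :=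
      (Subgroup.normal_subgroupOf_iff_le_normalizer hQH).1 hn'
    rw [← hn, Q.card_eq_index_normalizer]
    exact Subgroup.index_dvd_of_le hHN
  · left
    by_contra htop
    have hine : H.index ≠ 1 := fun e1 => htop (Subgroup.index_eq_one.1 e1)
    rw [show Nat.divisors 12 = {1, 2, 3, 4, 6, 12} by decide] at he'
    simp only [Finset.mem_insert, Finset.mem_singleton] at he'
    have h3 := Nat.le_of_dvd (by omega) h2
    rcases he' with rfl | rfl | rfl | rfl | rfl | rfl <;> try omega
    exact hone (card_sylow_five_eq_one he (by simp))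

/-- There is no simple group of order 5400. -/
theorem false_of_card_5400 {G : Type*} [Group G] [Finite G] [IsSimpleGroup G]
    (hG : ¬ IsMulCommutative G) (hN : Nat.card G = 5400) : False := by
  classical
  haveI : Fact (Nat.Prime 5) := ⟨by norm_num⟩
  have hN' : Nat.card G = 5 ^ 2 * 216 := hN
  have h216 : ¬ 5 ∣ 216 := by norm_num
  have hP25 : ∀ Q : Sylow 5 G, Nat.card (Q : Subgroup G) = 5 ^ 2 := card_sylow_eq hN' h216
  have hmem := card_sylow_mem hG hN' two_ne_zero h216
  rw [show (Nat.divisors 216).filter (fun d => d % 5 = 1 ∧ d ≠ 1) = {6, 36, 216} by decide +kernel]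
    at hmem
  simp only [Finset.mem_insert, Finset.mem_singleton] at hmem
  obtain ⟨P₀⟩ : Nonempty (Sylow 5 G) := inferInstance
  have hnmul := card_sylow_mul_card_normalizer P₀
  rcases hmem with hn | hn | hn
  · have h := two_mul_card_dvd_factorial_sylow hG (p := 5) (by rw [hN]; norm_num)
    rw [hn, hN] at h
    norm_num [Nat.factorial] at h
  rotate_left
  · rw [hn, hN] at hnmul
    refine not_normalizer_le_centralizer hG (p := 5) (by rw [hN]; norm_num) P₀ ?_
    have hle : (P₀ : Subgroup G) ≤ Subgroup.normalizer ((P₀ : Subgroup G) : Set G) :=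
      Subgroup.le_normalizer
    rw [← Subgroup.eq_of_le_of_card_ge hle (by rw [hP25]; omega)]
    intro g hg
    rw [Subgroup.mem_centralizer_iff]
    exact fun a ha => (Subgroup.mem_centralizer_singleton_iff.1
      (le_centralizer_of_card_sq (hP25 P₀) hg ha))
  obtain ⟨D, P, R, c, d, hPR, hD, hDP, hPM, hRM, hMc, hMd, hcd, -, hfac, hn1, hnmod, hndvd⟩ :=
    exists_inter_normalizer hG hN' h216 le_rfl (by rw [hn]; norm_num)
  set M := Subgroup.normalizer (D : Set G) with hMdef
  rw [show 2 - 1 = 1 from rfl, pow_one] at hD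
  have hd10 : 10 ≤ d := by
    by_contra hlt
    rw [hN] at hfac
    exact absurd (hfac.trans (Nat.factorial_dvd_factorial (show d ≤ 9 by omega))) (by decide +kernel)
  have hc : c = 12 ∧ d = 18 ∧ Nat.card (Sylow 5 M) = 6 := by
    have hc21 : c ≤ 21 := by
      have := Nat.mul_le_mul_left c hd10
      omega
    have hcd' : c ∣ 216 := ⟨d, hcd.symm⟩
    have hle := Nat.le_of_dvd (Nat.pos_of_ne_zero fun h => by simp [h] at hcd) hndvd
    have h6 : Nat.card (Sylow 5 M) = 6 := by
      have hle21 := hle.trans hc21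
      interval_cases h : Nat.card (Sylow 5 M) <;> try omega
      all_goals exact absurd (hndvd.trans hcd') (by norm_num)
    rw [h6] at hndvd
    have hc612 : c = 6 ∨ c = 12 ∨ c = 18 := by omega
    rcases hc612 with rfl | rfl | rfl
    · exact absurd (card_sylow_five_eq_one (T := M) hMc (by simp)) hn1
    · exact ⟨rfl, by omega, h6⟩
    · exact absurd (card_sylow_five_eq_one (T := M) hMc (by simp)) hn1
  obtain ⟨rfl, rfl, hn6⟩ := hc
  -- `D` is central in `M`
  have hDsylow : ∀ Q : Sylow 5 G, (Q : Subgroup G) ≤ M → D ≤ (Q : Subgroup G) := fun Q hQ => by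
    have hD5 : IsPGroup 5 D := IsPGroup.of_card (n := 1) (by rw [hD, pow_one])
    have h := Q.3 (IsPGroup.to_sup_of_normal_right' Q.2 hD5 hQ) le_sup_left
    exact le_sup_right.trans_eq h
  have hab : ∀ Q : Sylow 5 G, (Q : Subgroup G) ≤ M →
      (Q : Subgroup G) ≤ Subgroup.centralizer (D : Set G) := fun Q hQ g hg =>
    Subgroup.mem_centralizer_iff.2 fun a ha =>
      (Subgroup.mem_centralizer_singleton_iff.1
        (le_centralizer_of_card_sq (hP25 Q) (hDsylow Q hQ ha) hg)).symm
  set C := Subgroup.centralizer (D : Set G) with hCdef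
  have hCM : C ≤ M := Subgroup.centralizer_le_normalizer _
  have hPC := hab P hPM
  have hRC := hab R hRM
  have hCeq : C = M := by
    refine (Subgroup.subgroupOf_eq_top.1 ?_).antisymm' hCM
    have h25 : 5 ^ 2 ∣ Nat.card (C.subgroupOf M) := by
      rw [Nat.card_congr (Subgroup.subgroupOfEquivOfLe hCM).toEquiv, ← hP25 P]
      exact Subgroup.card_dvd_of_le hPC
    rcases eq_top_or_six_dvd_index hMc hn6 _ h25 with h | h
    · exact h
    exfalso
    have hmul := (C.subgroupOf M).card_mul_index
    obtain ⟨e, he⟩ := h25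
    obtain ⟨i, hi⟩ := h
    rw [he, hi, hMc] at hmul
    have hei : e * i = 2 := by
      have : 5 ^ 2 * 6 * (e * i) = 5 ^ 2 * 6 * 2 := by rw [← show 5 ^ 2 * 12 = 5 ^ 2 * 6 * 2 from rfl, ← hmul]; ring
      exact Nat.eq_of_mul_eq_mul_left (by norm_num) this
    have he2 : e ≤ 2 := Nat.le_of_dvd two_pos ⟨i, hei.symm⟩
    rw [Nat.card_congr (Subgroup.subgroupOfEquivOfLe hCM).toEquiv] at he
    have hsub : Subsingleton (Sylow 5 C) := by
      refine (Nat.card_eq_one_iff_unique.1 ?_).1
      have h1 := card_sylow_mod (G := C) 5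
      have h2 := card_sylow_dvd he (fun h5 => by
        have := Nat.le_of_dvd (Nat.pos_of_ne_zero fun h0 => by simp [h0] at hei) h5; omega)
      have h3 := Nat.le_of_dvd (Nat.pos_of_ne_zero fun h0 => by simp [h0] at hei) h2
      omega
    exact hPR (Sylow.subtype_injective (hP := hPC) (hQ := hRC) (Subsingleton.elim _ _))
  -- a generator of `D`
  obtain ⟨x', hx'⟩ := exists_prime_orderOf_dvd_card' (G := D) 5 (by rw [hD])
  obtain ⟨x, hxD⟩ := x'
  rw [← Subgroup.orderOf_coe] at hx'
  change orderOf x = 5 at hx'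
  have hzx : Subgroup.zpowers x = D := Subgroup.eq_of_le_of_card_ge (Subgroup.zpowers_le.2 hxD)
    (by rw [Nat.card_zpowers, hx', hD])
  have hCx : Subgroup.centralizer ({x} : Set G) = M := by
    rw [← hCeq, hCdef, ← hzx, ← Subgroup.centralizer_closure, Subgroup.zpowers_eq_closure]
  have hxM : x ∈ M := Subgroup.le_normalizer hxD
  have hMtop : M ≠ ⊤ := fun e => by rw [e, Subgroup.index_top] at hMd; omega
  -- `M` is maximal and self-normalising
  have hmax : ∀ K : Subgroup G, M < K → K = ⊤ := by
    intro K hK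
    by_contra hKtop
    have h1 := two_mul_card_dvd_factorial_index hG K hKtop
    have h2 := Subgroup.index_dvd_of_le hK.le
    rw [hMd] at h2
    have h3 : K.index < 18 := hMd ▸ Subgroup.index_strictAnti hK
    have h4 : K.index ≤ 9 := by
      by_contra h9
      interval_cases h : K.index <;> omega
    rw [hN] at h1
    exact absurd (h1.trans (Nat.factorial_dvd_factorial h4)) (by decide +kernel)
  have hMbot : M ≠ ⊥ := fun e => by
    rw [e, Subgroup.card_bot] at hMc; omega
  have hNM : Subgroup.normalizer (M : Set G) = M := by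
    rcases (Subgroup.le_normalizer (H := M)).eq_or_lt with e | e
    · exact e.symm
    · exact absurd (hmax _ e) (normalizer_ne_top hMbot hMtop)
  -- fixed points of `x` on the cosets
  haveI : Fintype (G ⧸ M) := Fintype.ofFinite _
  set o : G ⧸ M := ((1 : G) : G ⧸ M) with ho
  have hsto : stabilizer G o = M := stabilizer_quotient M
  let F : SubMulAction M (G ⧸ M) :=
    { carrier := {q | x • q = q ∧ q ≠ o}
      smul_mem' := fun m q ⟨hq, hq'⟩ => by
        have hcomm : x * (m : G) = m * x :=
          Subgroup.mem_centralizer_singleton_iff.1 (hCx.symm ▸ m.2) |>.symm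
        refine ⟨?_, fun h => hq' ?_⟩
        · show x • (m : G) • q = (m : G) • q
          rw [smul_smul, hcomm, ← smul_smul, hq]
        · have hm : (m : G)⁻¹ • o = o :=
            mem_stabilizer_iff.1 (hsto.symm ▸ inv_mem m.2)
          have h' : (m : G) • q = o := h
          rw [← inv_smul_smul (m : G) q, h', hm] }
  have h6 : 6 ∣ Nat.card F := by
    refine CfsgLib.Derangement.dvd_card_of_dvd_orbit (M := M) fun ⟨q, hq⟩ => ?_
    obtain ⟨g, rfl⟩ := QuotientGroup.mk_surjective q
    obtain ⟨hfix, hne⟩ := hq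
    rw [Nat.card_coe_set_eq, ← index_stabilizer]
    have hstq : stabilizer M (⟨(g : G ⧸ M), hfix, hne⟩ : F) = stabilizer M (g : G ⧸ M) := by
      ext m
      simp only [mem_stabilizer_iff]
      exact ⟨fun h => congrArg Subtype.val h, fun h => Subtype.ext h⟩
    rw [hstq]
    have hy : g⁻¹ * x * g ∈ M := by
      have := QuotientGroup.eq.1 (show ((x * g : G) : G ⧸ M) = (g : G ⧸ M) from hfix).symm
      rwa [← mul_assoc] at this
    refine (eq_top_or_six_dvd_index hMc hn6 _ ?_).resolve_left fun htop => hne ?_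
    · -- a conjugate of a Sylow subgroup of `M` fixes `g M`
      set y : M := ⟨g⁻¹ * x * g, hy⟩
      have hy5 : orderOf y = 5 := by
        rw [← Subgroup.orderOf_coe, ← hx']
        show orderOf (g⁻¹ * x * g) = _
        rw [show g⁻¹ * x * g = MulAut.conj g⁻¹ x by simp, MulEquiv.orderOf_eq]
      obtain ⟨Q, hQ⟩ := (IsPGroup.of_card (n := 1) (by rw [Nat.card_zpowers, hy5, pow_one]) :
        IsPGroup 5 (Subgroup.zpowers y)).exists_le_sylow
      have hQc : Nat.card (Q : Subgroup M) = 5 ^ 2 := card_sylow_eq hMc (by norm_num) Q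
      have hfixes : ∀ a ∈ (Q : Subgroup M), g * (a : G) * g⁻¹ ∈ M ∧
          (g * (a : G) * g⁻¹) • (g : G ⧸ M) = g := by
        intro a ha
        refine ⟨?_, ?_⟩
        · have h1 := Subgroup.mem_centralizer_singleton_iff.1
            (le_centralizer_of_card_sq hQc (hQ (Subgroup.mem_zpowers y)) ha)
          have h2 : (a : G) * (g⁻¹ * x * g) = g⁻¹ * x * g * a := congrArg Subtype.val h1
          refine hCx.le (Subgroup.mem_centralizer_singleton_iff.2 ?_)
          calc g * (a : G) * g⁻¹ * x = g * ((a : G) * (g⁻¹ * x * g)) * g⁻¹ := by group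
            _ = x * (g * a * g⁻¹) := by rw [h2]; group
        · show ((g * (a : G) * g⁻¹ * g : G) : G ⧸ M) = g
          rw [inv_mul_cancel_right, QuotientGroup.eq]
          simp
      let L : Subgroup M :=
        ((Q : Subgroup M).map ((MulAut.conj g).toMonoidHom.comp M.subtype)).subgroupOf M
      have hL : Nat.card L = 5 ^ 2 := by
        have hle : (Q : Subgroup M).map ((MulAut.conj g).toMonoidHom.comp M.subtype) ≤ M := by
          rintro _ ⟨a, ha, rfl⟩; exact (hfixes a ha).1
        rw [Nat.card_congr (Subgroup.subgroupOfEquivOfLe hle).toEquiv,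
          Subgroup.card_map_of_injective
            ((MulAut.conj g).injective.comp M.subtype_injective), hQc]
      refine hL ▸ Subgroup.card_dvd_of_le fun m hm => ?_
      obtain ⟨a, ha, hae⟩ := hm
      show (m : G) • (g : G ⧸ M) = g
      rw [show (m : G) = g * a * g⁻¹ from hae.symm]
      exact (hfixes a ha).2
    · -- only `M` itself is fixed by all of `M`
      have hconj : M.map (MulAut.conj g⁻¹).toMonoidHom = M := by
        refine Subgroup.eq_of_le_of_card_ge ?_ (Subgroup.card_map_of_injective
          (MulAut.conj g⁻¹).injective).ge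
        rintro _ ⟨m, hm, rfl⟩
        have h1 : m • (g : G ⧸ M) = g :=
          (mem_stabilizer_iff (G := M)).1 (htop.ge (Subgroup.mem_top (⟨m, hm⟩ : M)))
        have := QuotientGroup.eq.1 (show ((m * g : G) : G ⧸ M) = g from h1).symm
        simpa [mul_assoc] using this
      have hgN : g⁻¹ ∈ Subgroup.normalizer (M : Set G) := by
        rw [Subgroup.mem_normalizer_iff]
        intro h
        constructor
        · intro hh
          exact hconj.le ⟨h, hh, rfl⟩
        · intro hh
          obtain ⟨k, hk, hke⟩ := hconj.ge hh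
          rwa [← (MulAut.conj g⁻¹).injective (show MulAut.conj g⁻¹ k = MulAut.conj g⁻¹ h from hke)]
      rw [hNM] at hgN
      exact QuotientGroup.eq.2 (by simpa using hgN)
  -- count
  set f := MulAction.toPermHom G (G ⧸ M) with hf
  have hinj : Function.Injective f := toPermHom_coset_injective hMtop
  have hα : Fintype.card (G ⧸ M) = 18 := by
    rw [← Nat.card_eq_fintype_card, ← Subgroup.index_eq_card, hMd]
  set σ := f x with hσ
  have hord : orderOf σ = 5 := by rw [hσ, orderOf_injective f hinj, hx']
  obtain ⟨n, hn5⟩ := Equiv.Perm.cycleType_prime_order (σ := σ) (hord ▸ (Fact.out : Nat.Prime 5))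
  have hsupp : σ.support.card = 5 * (n + 1) := by
    rw [← Equiv.Perm.sum_cycleType, hn5, hord, Multiset.sum_replicate, smul_eq_mul, mul_comm]
  have hFc : Nat.card F = (σ.supportᶜ.erase o).card := by
    rw [← Nat.card_eq_finsetCard]
    refine Nat.card_congr (Equiv.subtypeEquivRight fun q => ?_)
    rw [Finset.mem_erase, Finset.mem_compl, Equiv.Perm.notMem_support]
    exact ⟨fun h => ⟨h.2, h.1⟩, fun h => ⟨h.2, h.1⟩⟩
  have hofix : o ∈ σ.supportᶜ := by
    rw [Finset.mem_compl, Equiv.Perm.notMem_support]
    exact mem_stabilizer_iff.1 (hsto.symm ▸ hxM)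
  rw [hFc, Finset.card_erase_of_mem hofix, Finset.card_compl, hα, hsupp] at h6
  have hle : σ.support.card ≤ 18 := hα ▸ Finset.card_le_univ _
  have hn0 : n = 0 := by omega
  rw [hn0] at hsupp
  have hcyc : σ.IsCycle :=
    Equiv.Perm.isCycle_of_prime_order (hord ▸ Fact.out) (by rw [hord, hsupp]; norm_num)
  haveI : IsPreprimitive G (G ⧸ M) := by
    haveI : Nontrivial (G ⧸ M) := Fintype.one_lt_card_iff_nontrivial.1 (by omega)
    rw [← isCoatom_stabilizer_iff_preprimitive G o, hsto]
    exact ⟨hMtop, hmax⟩
  have hprim : IsPreprimitive f.range (G ⧸ M) :=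
    IsPreprimitive.of_surjective (φ := f.rangeRestrict)
      (f := { toFun := id, map_smul' := fun _ _ => rfl }) Function.surjective_id
  have hA := CfsgLib.JordanPrime.alternatingGroup_le_of_prime_cycle hprim
    (Fact.out : Nat.Prime 5) (by omega) hcyc (by rw [hsupp]) ⟨x, rfl⟩
  haveI : Nontrivial (G ⧸ M) := Fintype.one_lt_card_iff_nontrivial.1 (by omega)
  have h1 := Subgroup.card_le_of_le hA
  rw [← Nat.card_congr (MonoidHom.ofInjective hinj).toEquiv, hN] at h1
  have h2 := two_mul_card_alternatingGroup (α := G ⧸ M)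
  rw [Fintype.card_perm, hα, ← Nat.card_eq_fintype_card] at h2
  have h3 : 10800 < Nat.factorial 18 := by decide +kernel
  omega

end CfsgLib.Classification.OrderRange
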