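import Cfsg.Agent.Classification.OrderRange.Cert

/-!
# Certificates for the multiples of four from `3644` to `6232`
-/

set_option autoImplicit false

namespace CfsgLib.Classification.OrderRange

/-- Certificates from `4 * 911` on. -/
def table0 : List Cert :=
  [.auto, .big 19, .auto, .pq 2 457 3 1, .big 61, .pq 2 229 4 1, .auto, .big 17, .auto, .big 23,
   .big 307, .pq 2 461 3 1, .auto, .block 11, .auto, .pq 2 463 3 1, .big 103, .pq 2 29 7 1,
   .auto, .big 31, .auto, .pq 2 233 4 1, .big 311, .pq 2 467 3 1, .auto, .block 13, .auto,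
   .big 67, .big 313, .big 47, .auto, .big 157, .auto, .pq 2 59 6 1, .block 7, .big 43, .auto,
   .big 79, .auto, .big 19, .big 317, .big 17, .auto, .big 53, .auto, .pq 2 239 4 1, .big 29,
   .pq 2 479 3 1, .auto, .syl 2 8, .auto, .big 37, .big 107, .pq 2 241 4 1, .auto, .big 23,
   .auto, .pq 2 11 5 2, .big 19, .big 97, .auto, .pq 2 3 4 5, .auto, .pq 2 487 3 1, .syl 13 1,
   .pq 2 61 6 1, .auto, .big 163, .auto, .syl 7 2, .big 109, .pq 2 491 3 1, .auto, .big 41,
   .auto, .big 29, .big 47, .big 19, .auto, .block 11, .auto]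

theorem table0_check : checkFrom 911 table0 = true := by decide +kernel

/-- Certificates from `4 * 992` on. -/
def table1 : List Cert :=
  [.pq 2 31 7 1, .big 331, .big 71, .auto, .big 83, .auto, .pq 2 499 3 1, .big 37, .pq 2 5 5 3,
   .auto, .big 167, .auto, .pq 2 251 4 1, .big 67, .pq 2 503 3 1, .auto, .hand, .auto, .big 101,
   .big 337, .big 23, .auto, .syl 13 2, .auto, .pq 2 127 5 1, .big 113, .pq 2 509 3 1, .auto,
   .target, .auto, .big 73, .big 31, .pq 2 2 12 0, .auto, .big 19, .auto, .pq 2 257 4 1,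
   .syl 7 3, .big 103, .auto, .big 43, .auto, .big 47, .big 23, .big 37, .auto, .big 173, .auto,
   .syl 13 1, .big 347, .pq 2 521 3 1, .auto, .big 29, .auto, .pq 2 523 3 1, .big 349,
   .pq 2 131 5 1, .auto, .block 7, .auto, .pq 2 263 4 1, .block 13, .big 31, .auto, .syl 11 1,
   .auto, .pq 2 23 3 2, .big 353, .big 53, .auto, .big 59, .auto, .big 19, .big 71, .big 41,
   .auto, .big 89, .auto, .big 107, .big 17, .pq 2 67 6 1]

theorem table1_check : checkFrom 992 table1 = true := by decide +kernel

/-- Certificates from `4 * 1073` on. -/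
def table2 : List Cert :=
  [.auto, .big 179, .auto, .pq 2 269 4 1, .big 359, .syl 11 1, .auto, .hand, .auto,
   .pq 2 541 3 1, .big 19, .pq 2 271 4 1, .auto, .big 181, .auto, .pq 2 17 8 1, .syl 11 2,
   .big 109, .auto, .syl 13 1, .auto, .pq 2 547 3 1, .big 73, .pq 2 137 5 1, .auto, .big 61,
   .auto, .block 11, .big 367, .big 29, .auto, .big 23, .auto, .big 79, .big 41, .pq 2 277 4 1,
   .auto, .big 37, .auto, .pq 2 139 5 1, .big 53, .pq 2 557 3 1, .auto, .big 31, .auto, .big 43,
   .big 373, .syl 2 7, .auto, .big 17, .auto, .pq 2 281 4 1, .syl 5 3, .pq 2 563 3 1, .auto,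
   .big 47, .auto, .big 113, .big 29, .pq 2 283 4 1, .auto, .block 7, .auto, .pq 2 71 6 1,
   .big 379, .pq 2 569 3 1, .auto, .big 19, .auto, .pq 2 571 3 1, .big 127, .syl 13 1, .auto,
   .big 191, .auto, .big 41, .big 383, .big 23, .auto, .pq 2 3 9 2, .auto]

theorem table2_check : checkFrom 1073 table2 = true := by decide +kernel

/-- Certificates from `4 * 1154` on. -/
def table3 : List Cert :=
  [.pq 2 577 3 1, .pair 7 11 [20, 21], .pq 2 17 4 2, .auto, .big 193, .auto, .big 29, .big 43,
   .big 83, .auto, .big 97, .auto, .big 53, .big 389, .pq 2 73 6 1, .auto, .block 13, .auto,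
   .pq 2 293 4 1, .big 23, .pq 2 587 3 1, .auto, .syl 7 2, .auto, .big 31, .big 131, .big 59,
   .auto, .big 197, .auto, .pq 2 37 7 1, .big 79, .pq 2 593 3 1, .auto, .syl 11 1, .auto,
   .big 17, .big 397, .pq 2 149 5 1, .auto, .big 199, .auto, .big 23, .big 19, .pq 2 599 3 1,
   .auto, .block 3, .auto, .pq 2 601 3 1, .big 401, .big 43, .auto, .big 67, .auto,
   .pq 2 151 5 1, .big 31, .syl 11 2, .auto, .big 101, .auto, .pq 2 607 3 1, .syl 3 5,
   .pq 2 19 8 1, .auto, .big 29, .auto, .big 61, .big 37, .big 47, .auto, .big 17, .auto,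
   .pq 2 613 3 1, .big 409, .pq 2 307 4 1, .auto, .big 41, .auto, .block 11, .big 137,
   .pq 2 617 3 1]

theorem table3_check : checkFrom 1154 table3 = true := by decide +kernel

/-- Certificates from `4 * 1235` on. -/
def table4 : List Cert :=
  [.auto, .big 103, .auto, .pq 2 619 3 1, .big 59, .big 31, .auto, .big 23, .auto,
   .pq 2 311 4 1, .big 83, .big 89, .auto, .syl 13 1, .auto, .pq 2 5 3 4, .big 139,
   .pq 2 313 4 1, .auto, .big 19, .auto, .pq 2 157 5 1, .big 419, .big 37, .auto, .hand, .auto,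
   .pq 2 631 3 1, .big 421, .pq 2 79 6 1, .auto, .big 211, .auto, .pq 2 317 4 1, .big 47,
   .big 127, .auto, .big 53, .auto, .syl 7 2, .syl 17 1, .big 29, .auto, .big 71, .auto,
   .pq 2 5 10 1, .big 61, .pq 2 641 3 1, .auto, .big 107, .auto, .pq 2 643 3 1, .block 13,
   .big 23, .auto, .big 43, .auto, .big 19, .big 431, .pq 2 647 3 1, .auto, .pq 2 3 6 4, .auto,
   .big 59, .big 433, .block 13, .auto, .big 31, .auto, .pq 2 163 5 1, .big 29, .pq 2 653 3 1,
   .auto, .big 109, .auto, .big 131, .big 23, .pq 2 41 7 1, .auto, .big 73, .auto]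

theorem table4_check : checkFrom 1235 table4 = true := by decide +kernel

/-- Certificates from `4 * 1316` on. -/
def table5 : List Cert :=
  [.big 47, .big 439, .pq 2 659 3 1, .auto, .syl 11 1, .auto, .pq 2 661 3 1, .syl 7 2,
   .pq 2 331 4 1, .auto, .syl 13 1, .auto, .pq 2 83 6 1, .big 443, .big 19, .auto, .big 37,
   .auto, .big 29, .big 89, .pq 2 167 5 1, .auto, .big 223, .auto, .big 67, .big 149, .big 61,
   .auto, .block 7, .auto, .pq 2 673 3 1, .big 449, .pq 2 337 4 1, .auto, .hand, .auto,
   .pq 2 13 5 2, .big 41, .pq 2 677 3 1, .auto, .big 113, .auto, .big 97, .big 151, .syl 17 1,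
   .auto, .big 227, .auto, .big 31, .pair 7 13 [12, 35], .pq 2 683 3 1, .auto, .big 19, .auto,
   .big 137, .big 457, .pq 2 7 4 3, .auto, .big 229, .auto, .pq 2 43 7 1, .syl 17 1, .big 53,
   .auto, .big 23, .auto, .pq 2 691 3 1, .big 461, .pq 2 173 5 1, .auto, .syl 11 1, .auto,
   .pq 2 347 4 1, .big 463, .big 139, .auto, .big 29, .auto, .big 41, .big 31, .pq 2 349 4 1]

theorem table5_check : checkFrom 1316 table5 = true := by decide +kernel

/-- Certificates from `4 * 1397` on. -/
def table6 : List Cert :=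
  [.auto, .big 233, .auto, .block 7, .big 467, .pq 2 701 3 1, .auto, .target, .auto, .big 37,
   .big 67, .pq 2 11 9 1, .auto, .big 47, .auto, .pq 2 353 4 1, .big 157, .big 101, .auto,
   .big 59, .auto, .pq 2 709 3 1, .big 43, .big 71, .auto, .big 79, .auto, .pq 2 89 6 1,
   .big 19, .big 31, .auto, .syl 17 1, .auto, .syl 13 1, .big 53, .pq 2 179 5 1, .auto,
   .big 239, .auto, .pq 2 359 4 1, .big 479, .pq 2 719 3 1, .auto, .hand, .auto, .big 103,
   .big 37, .pq 2 19 4 2, .auto, .big 241, .auto, .pq 2 181 5 1, .big 23, .big 29, .auto,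
   .syl 11 2, .auto, .pq 2 727 3 1, .big 97, .syl 13 1, .auto, .pq 2 3 3 6, .auto, .big 73,
   .big 487, .big 43, .auto, .big 61, .auto, .pq 2 733 3 1, .big 163, .pq 2 367 4 1, .auto,
   .block 5, .auto, .pq 2 23 8 1, .big 491, .big 67, .auto, .big 41, .auto]

theorem table6_check : checkFrom 1397 table6 = true := by decide +kernel

/-- Certificates from `4 * 1478` on. -/
def table7 : List Cert :=
  [.pq 2 739 3 1, .big 29, .big 37, .auto, .big 19, .auto, .big 53, .block 11, .pq 2 743 3 1,
   .auto, .big 31, .auto, .big 149, .big 71, .pq 2 373 4 1, .auto, .big 83, .auto, .syl 17 1,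
   .big 499, .big 107, .auto, .syl 5 3, .auto, .pq 2 751 3 1, .big 167, .pq 2 47 7 1, .auto,
   .big 251, .auto, .big 29, .big 503, .big 151, .auto, .target, .auto, .pq 2 757 3 1, .big 101,
   .pq 2 379 4 1, .auto, .target, .auto, .big 19, .syl 13 2, .pq 2 761 3 1, .auto, .big 127,
   .auto, .big 109, .big 509, .pq 2 191 5 1, .auto, .syl 17 1, .auto, .pq 2 383 4 1, .big 73,
   .big 59, .auto, .pq 2 3 11 1, .auto, .pq 2 769 3 1, .big 19, .syl 7 1, .auto, .big 257,
   .auto, .pq 2 193 5 1, .big 103, .pq 2 773 3 1, .auto, .big 43, .auto, .big 31, .big 47,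
   .pq 2 97 6 1, .auto, .big 37, .auto, .pq 2 389 4 1, .big 173, .big 41]

theorem table7_check : checkFrom 1478 table7 = true := by decide +kernel

theorem exists_cert {j : ℕ} (h1 : 911 ≤ j) (h2 : j ≤ 1558) : ∃ c : Cert, c.check (4 * j) = true := by
  by_cases h : j < 992
  · exact exists_cert_of_checkFrom table0_check (by omega) (by simp [table0]; omega)
  by_cases h : j < 1073
  · exact exists_cert_of_checkFrom table1_check (by omega) (by simp [table1]; omega)
  by_cases h : j < 1154
  · exact exists_cert_of_checkFrom table2_check (by omega) (by simp [table2]; omega)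
  by_cases h : j < 1235
  · exact exists_cert_of_checkFrom table3_check (by omega) (by simp [table3]; omega)
  by_cases h : j < 1316
  · exact exists_cert_of_checkFrom table4_check (by omega) (by simp [table4]; omega)
  by_cases h : j < 1397
  · exact exists_cert_of_checkFrom table5_check (by omega) (by simp [table5]; omega)
  by_cases h : j < 1478
  · exact exists_cert_of_checkFrom table6_check (by omega) (by simp [table6]; omega)
  by_cases h : j < 1559
  · exact exists_cert_of_checkFrom table7_check (by omega) (by simp [table7]; omega)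
  omega

end CfsgLib.Classification.OrderRange
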