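import Cfsg.Agent.Classification.OrderRange.Block
import Cfsg.Agent.LargePrime.SmallCofactor
import Cfsg.Agent.S0205
import Cfsg.Agent.S0992

/-!
# Certificates excluding orders up to `6399`
-/

set_option autoImplicit false
set_option linter.style.haveILetI false

namespace CfsgLib.Classification.OrderRange

open CfsgLib.Small CfsgLib.Classification.SmallOrders

/-- Certificates, one for each multiple of four. -/
inductive Cert
  | auto
  | target
  | hand
  | big (p : ℕ)
  | pq (p q a b : ℕ)
  | syl (p a : ℕ)
  | block (p : ℕ)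
  | pair (p q : ℕ) (A : List ℕ)

/-- Certificate check for the order `N`. -/
def Cert.check (N : ℕ) : Cert → Bool
  | .auto => !(N % 8 == 0) && !(N % 3 == 0)
  | .target => [4080, 5616, 6048, 6072].contains N
  | .hand => [4032, 4320, 5040, 5400, 5760].contains N
  | .big p => primeCheck p && decide (3 ≤ p) && (N % p == 0) && decide (N < p ^ 3) &&
      !(2 * N == p * (p ^ 2 - 1)) && !(N == (p - 1) * ((p - 1) ^ 2 - 1))
  | .pq p q a b => primeCheck p && primeCheck q && (p ^ a * q ^ b == N)
  | .syl p a => sylowCheck N p a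
  | .block p => primeKilled N p (fun _ => false) (fun _ => false) false
  | .pair p q A => primeKilled N q (fun _ => false) (fun n => A.contains n) true &&
      primeKilled N p (fun n => !(n == 1) && !(n % q == 0) && !A.contains n) (fun _ => false) false

/-- Check consecutive multiples of four from `4 * i` on. -/
def checkFrom : ℕ → List Cert → Bool
  | _, [] => true
  | i, c :: cs => c.check (4 * i) && checkFrom (i + 1) cs

theorem exists_cert_of_checkFrom {j : ℕ} : ∀ {i : ℕ} {L : List Cert},
    checkFrom i L = true → i ≤ j → j < i + L.length → ∃ c : Cert, c.check (4 * j) = true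
  | i, [], _, h1, h2 => by simp only [List.length_nil, add_zero] at h2; omega
  | i, c :: cs, h, h1, h2 => by
    rw [checkFrom, Bool.and_eq_true] at h
    rcases eq_or_lt_of_le h1 with rfl | h1
    · exact ⟨c, h.1⟩
    · exact exists_cert_of_checkFrom h.2 h1 (by simp only [List.length_cons] at h2; omega)

variable {G : Type*} [Group G] [Finite G] [IsSimpleGroup G]

theorem fact_of_primeKilled {N p : ℕ} {pred inA : ℕ → Bool} {start : Bool}
    (h : primeKilled N p pred inA start = true) : Fact p.Prime := by
  simp only [primeKilled, Bool.and_eq_true] at h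
  exact ⟨prime_of_primeCheck h.1.1.1.1.1⟩

/-- Four divides the order. -/
theorem four_dvd_card (hG : ¬ IsMulCommutative G) : 4 ∣ Nat.card G := by
  rcases Nat.even_or_odd (Nat.card G) with he | ho
  · exact four_dvd_card_of_simple hG (even_iff_two_dvd.1 he)
  · exact absurd ⟨⟨IsSimpleGroup.comm_iff_isSolvable.2 (Cfsg.Agent.S0205.result ho)⟩⟩ hG

/-- The checked criteria leave four orders of simple groups and five special orders. -/
theorem mem_of_check (hG : ¬ IsMulCommutative G) {c : Cert} (h : c.check (Nat.card G) = true) :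
    Nat.card G ∈ [4080, 5616, 6048, 6072] ∨ Nat.card G ∈ [4032, 4320, 5040, 5400, 5760] := by
  classical
  cases c with
  | auto =>
    exfalso
    simp only [Cert.check, Bool.and_eq_true, Bool.not_eq_true', beq_eq_false_iff_ne] at h
    obtain ⟨T⟩ : Nonempty (Sylow 2 G) := inferInstance
    have h3 := (Cfsg.Agent.S0992.result hG
      (even_iff_two_dvd.2 (dvd_trans (by norm_num) (four_dvd_card hG)))
      (fun h8 => h.1 (Nat.mod_eq_zero_of_dvd h8)) T).2
    refine h.2 (Nat.mod_eq_zero_of_dvd ?_)
    exact h3 ▸ (Subgroup.relIndex_dvd_card _ _).trans (Subgroup.card_subgroup_dvd_card _)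
  | target => exact Or.inl (by simpa [Cert.check] using h)
  | hand => exact Or.inr (by simpa [Cert.check] using h)
  | big p =>
    exfalso
    simp only [Cert.check, Bool.and_eq_true, decide_eq_true_eq, Bool.not_eq_true',
      beq_eq_false_iff_ne, beq_iff_eq] at h
    obtain ⟨⟨⟨⟨⟨hp, hp3⟩, hd⟩, hlt⟩, hodd⟩, heven⟩ := h
    have hp' := prime_of_primeCheck hp
    have hcyc : ¬ IsCyclic G := fun hc => hG (by infer_instance)
    rcases LargePrime.brauer_reynolds hcyc p hp' (Nat.dvd_of_mod_eq_zero hd) hlt with
      ⟨F, i1, i2, hF, -, ⟨φ⟩⟩ | ⟨i, F, i1, i2, hF, hpi, -, ⟨φ⟩⟩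
    · have := Linear.card_PSL_two_odd (F := F) (by rw [hF]; exact hp'.odd_of_ne_two (by omega))
      rw [← Nat.card_congr φ.toEquiv, hF] at this
      exact hodd this
    · have hev : Even (Fintype.card F) := by
        rw [hF]
        exact (Nat.even_pow.2 ⟨even_two, fun h => by rw [h, pow_zero] at hpi; omega⟩)
      have := Linear.card_PSL_two_even (F := F) hev
      rw [← Nat.card_congr φ.toEquiv, hF] at this
      exact heven (by rw [hpi, Nat.add_sub_cancel]; exact this)
  | pq p q a b =>
    exfalso
    simp only [Cert.check, Bool.and_eq_true, beq_iff_eq] at h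
    obtain ⟨⟨hp, hq⟩, hab⟩ := h
    haveI : Group.IsSolvable G := CfsgLib.Characters.isSolvable_of_card_eq_primePow_mul p q a b
      (prime_of_primeCheck hp) (prime_of_primeCheck hq) (dvd_of_eq hab.symm)
    exact hG ⟨⟨IsSimpleGroup.comm_iff_isSolvable.2 inferInstance⟩⟩
  | syl p a => exact (false_of_sylowCheck hG rfl h).elim
  | block p =>
    exfalso
    simp only [Cert.check] at h
    haveI := fact_of_primeKilled h
    rcases degrees_of_primeKilled hG rfl h with ⟨χ, hχ⟩ | ⟨hs, -⟩
    · exact Bool.false_ne_true hχ
    · exact Bool.false_ne_true hs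
  | pair p q A =>
    exfalso
    simp only [Cert.check, Bool.and_eq_true] at h
    haveI := fact_of_primeKilled h.1
    rcases degrees_of_primeKilled hG rfl h.1 with ⟨χ, hχ⟩ | ⟨-, hall⟩
    · exact Bool.false_ne_true hχ
    haveI := fact_of_primeKilled h.2
    rcases degrees_of_primeKilled hG rfl h.2 with ⟨χ, hχ⟩ | ⟨hs, -⟩
    · simp only [Bool.and_eq_true, Bool.not_eq_true', beq_eq_false_iff_ne] at hχ
      rcases hall χ with e | e | e
      · exact hχ.1.1 e
      · exact hχ.1.2 (Nat.mod_eq_zero_of_dvd e)
      · rw [hχ.2] at e; exact Bool.false_ne_true e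
    · exact Bool.false_ne_true hs

end CfsgLib.Classification.OrderRange
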